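import Mathlib

set_option autoImplicit false

/-!
For an odd prime `ℓ` we write `-1` as `a ^ 2 + q * b ^ 2` with `a`, `b` in the `ℓ`-th
cyclotomic field, for a prime `q ≡ 3 (mod 4)` which is a non-square mod `ℓ` and is a sum of
two squares in `ℚ(√5)`.
-/

namespace Cfsg.Amitsur

open Polynomial Finset

section Gauss

variable {q : ℕ} [Fact q.Prime]

/-- Quadratic character with complex values. -/
noncomputable def chi (q : ℕ) [Fact q.Prime] : MulChar (ZMod q) ℂ :=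
  (quadraticChar (ZMod q)).ringHomComp (Int.castRingHom ℂ)

theorem chi_apply (a : ZMod q) : chi q a = ((quadraticChar (ZMod q) a : ℤ) : ℂ) := by
  simp [chi]

/-- Non-zero squares. -/
noncomputable def sqs (q : ℕ) [Fact q.Prime] : Finset (ZMod q) :=
  Finset.univ.filter fun a => quadraticChar (ZMod q) a = 1

theorem mem_sqs {a : ZMod q} : a ∈ sqs q ↔ quadraticChar (ZMod q) a = 1 := by
  simp [sqs]

theorem chi_mul_gauss (hq : q ≠ 2) {a : ZMod q} (ha : a ≠ 0) (ψ : AddChar (ZMod q) ℂ) :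
    ∑ c, chi q c * ψ (a * c) = chi q a * gaussSum (chi q) ψ := by
  obtain ⟨u, rfl⟩ := (Ne.isUnit ha)
  have h := gaussSum_mulShift (chi q) ψ u
  have hsq : chi q (u : ZMod q) * chi q (u : ZMod q) = 1 := by
    rw [chi_apply]
    rcases quadraticChar_dichotomy ha with h1 | h1 <;> simp [h1]
  calc ∑ c, chi q c * ψ ((u : ZMod q) * c)
      = gaussSum (chi q) (ψ.mulShift (u : ZMod q)) := by simp [gaussSum, AddChar.mulShift_apply]
    _ = chi q u * gaussSum (chi q) ψ := by rw [← h, ← mul_assoc, hsq, one_mul]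

theorem sum_sqs (hq : q ≠ 2) {ψ : AddChar (ZMod q) ℂ} (hψ : ψ.IsPrimitive) {a : ZMod q}
    (ha : a ≠ 0) :
    ∑ c ∈ sqs q, ψ (a * c) = (-1 + chi q a * gaussSum (chi q) ψ) / 2 := by
  classical
  have h1 : ∀ c ∈ (Finset.univ : Finset (ZMod q)).erase 0,
      (if c ∈ sqs q then ψ (a * c) else 0) = (ψ (a * c) + chi q c * ψ (a * c)) / 2 := by
    intro c hc
    rw [Finset.mem_erase] at hc
    rcases quadraticChar_dichotomy hc.1 with h | h
    · rw [if_pos (mem_sqs.2 h), chi_apply, h]; push_cast; ring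
    · rw [if_neg (by rw [mem_sqs, h]; norm_num), chi_apply, h]; push_cast; ring
  have h2 : ∑ c ∈ sqs q, ψ (a * c)
      = ∑ c ∈ (Finset.univ : Finset (ZMod q)).erase 0,
          (if c ∈ sqs q then ψ (a * c) else 0) := by
    rw [← Finset.sum_filter]
    refine Finset.sum_congr ?_ (fun _ _ => rfl)
    ext c
    simp only [Finset.mem_filter, Finset.mem_erase, Finset.mem_univ, and_true]
    refine ⟨fun h => ⟨fun h0 => ?_, h⟩, fun h => h.2⟩
    rw [h0, mem_sqs] at h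
    simp at h
  rw [h2, Finset.sum_congr rfl h1, ← Finset.sum_div, Finset.sum_add_distrib]
  congr 1
  congr 1
  · have := AddChar.sum_mulShift (R := ZMod q) a hψ
    rw [if_neg ha, Nat.cast_zero] at this
    rw [Finset.sum_erase_eq_sub (Finset.mem_univ _)]
    simp only [mul_zero, AddChar.map_zero_eq_one]
    rw [show ∑ c, ψ (a * c) = ∑ c, ψ (c * a) from Finset.sum_congr rfl
      fun c _ => by rw [mul_comm], this]
    ring
  · rw [Finset.sum_erase _ (by simp [chi_apply]), chi_mul_gauss hq ha]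

theorem prod_sqs_eq (hq : q ≠ 2) :
    ∃ A B : ℚ[X], ∀ (ψ : AddChar (ZMod q) ℂ), ψ.IsPrimitive → ∀ x : ℂ,
      ∏ r ∈ sqs q, (1 - ψ r * x) = aeval x A + aeval x B * gaussSum (chi q) ψ := by
  classical
  set n : ℕ := (sqs q).card with hn
  have hn0 : (n : ℂ) ≠ 0 := by
    rw [hn, Nat.cast_ne_zero, ← Nat.pos_iff_ne_zero]
    exact Finset.card_pos.2 ⟨1, mem_sqs.2 (by simp)⟩
  let a : ZMod q → ℚ := fun e => if e = 0 then 1 else -1 / (2 * n)
  let b : ZMod q → ℚ := fun e =>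
    if e = 0 then 0 else (quadraticChar (ZMod q) e : ℤ) / (2 * n)
  refine ⟨∑ S ∈ (sqs q).powerset, C (a (∑ r ∈ S, r)) * (-X) ^ S.card,
    ∑ S ∈ (sqs q).powerset, C (b (∑ r ∈ S, r)) * (-X) ^ S.card, fun ψ hψ x => ?_⟩
  set T : ℂ := ∏ r ∈ sqs q, (1 - ψ r * x) with hT
  have hc : ∀ c ∈ sqs q, T = ∑ S ∈ (sqs q).powerset,
      (-x) ^ S.card * ψ ((∑ r ∈ S, r) * c) := by
    intro c hc
    have hmul : ∀ r ∈ sqs q, r * c ∈ sqs q := fun r hr => by
      rw [mem_sqs, map_mul, mem_sqs.1 hr, mem_sqs.1 hc, one_mul]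
    have hc0 : c ≠ 0 := by
      rintro rfl
      simp [mem_sqs] at hc
    have hperm : T = ∏ r ∈ sqs q, (1 - ψ (r * c) * x) := by
      refine (Finset.prod_bij (fun r _ => r * c) hmul (fun r _ s _ h => ?_) (fun r hr => ?_)
        (fun r _ => rfl)).symm
      · exact mul_right_cancel₀ hc0 h
      · refine ⟨r * c⁻¹, ?_, by rw [mul_assoc, inv_mul_cancel₀ hc0, mul_one]⟩
        have h1 : quadraticChar (ZMod q) c⁻¹ * quadraticChar (ZMod q) c = 1 := by
          rw [← map_mul, inv_mul_cancel₀ hc0, map_one]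
        rw [mem_sqs.1 hc, mul_one] at h1
        rw [mem_sqs, map_mul, mem_sqs.1 hr, h1, one_mul]
    rw [hperm]
    have hsum : ∀ S : Finset (ZMod q), ψ ((∑ r ∈ S, r) * c) = ∏ r ∈ S, ψ (r * c) := by
      intro S
      induction S using Finset.induction with
      | empty => simp
      | insert r S hr ih =>
        rw [Finset.sum_insert hr, Finset.prod_insert hr, add_mul, AddChar.map_add_eq_mul, ih]
    rw [show (∏ r ∈ sqs q, (1 - ψ (r * c) * x)) = ∏ r ∈ sqs q, (ψ (r * c) * (-x) + 1) from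
      Finset.prod_congr rfl fun r _ => by ring, Finset.prod_add]
    refine Finset.sum_congr rfl fun S _ => ?_
    rw [Finset.prod_const_one, mul_one, Finset.prod_mul_distrib, Finset.prod_const, hsum]
    ring
  have havg : (n : ℂ) * T = ∑ S ∈ (sqs q).powerset,
      (-x) ^ S.card * ∑ c ∈ sqs q, ψ ((∑ r ∈ S, r) * c) := by
    simp only [Finset.mul_sum]
    rw [Finset.sum_comm, ← Finset.sum_congr rfl hc, Finset.sum_const, nsmul_eq_mul]
  apply mul_left_cancel₀ hn0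
  rw [havg, map_sum, map_sum, Finset.sum_mul, ← Finset.sum_add_distrib, Finset.mul_sum]
  refine Finset.sum_congr rfl fun S _ => ?_
  simp only [map_mul, aeval_C, map_pow, map_neg, aeval_X, eq_ratCast]
  set e := ∑ r ∈ S, r
  by_cases he : e = 0
  · simp [a, b, he]
    ring
  · rw [sum_sqs hq hψ he, chi_apply]
    simp only [a, b, if_neg he]
    push_cast
    field_simp

theorem prod_erase_zero_eq (h3 : q % 4 = 3) :
    ∃ A B : ℚ[X], ∀ x : ℂ,
      (1 - x) * (aeval x A ^ 2 + (q : ℂ) * aeval x B ^ 2) = 1 - x ^ q := by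
  classical
  have hq : q ≠ 2 := by omega
  have hm1 : quadraticChar (ZMod q) (-1) = -1 := by
    rw [quadraticChar_neg_one (by rwa [ZMod.ringChar_zmod_n]), ZMod.card,
      ZMod.χ₄_nat_three_mod_four h3]
  obtain ⟨A, B, hAB⟩ := prod_sqs_eq (q := q) hq
  refine ⟨A, B, fun x => ?_⟩
  let ψ : AddChar (ZMod q) ℂ := ZMod.stdAddChar
  have hψ : ψ.IsPrimitive := ZMod.isPrimitive_stdAddChar q
  let ψ' := ψ.mulShift (-1)
  have hψ' : ψ'.IsPrimitive := by
    intro a ha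
    have : ψ'.mulShift a = ψ.mulShift (-a) := by
      ext c
      simp [ψ', AddChar.mulShift_apply]
    rw [this]
    exact hψ (neg_ne_zero.2 ha)
  have hg' : gaussSum (chi q) ψ' = - gaussSum (chi q) ψ := by
    have h := gaussSum_mulShift (chi q) ψ (-1 : (ZMod q)ˣ)
    rw [Units.val_neg, Units.val_one, chi_apply, hm1] at h
    push_cast at h
    linear_combination -h
  have hne : (quadraticChar (ZMod q)) ≠ 1 :=
    quadraticChar_ne_one (by rwa [ZMod.ringChar_zmod_n])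
  have hgg : gaussSum (chi q) ψ ^ 2 = -(q : ℂ) := by
    have hchi : chi q ≠ 1 := (MulChar.ringHomComp_ne_one_iff
      (f := Int.castRingHom ℂ) Int.cast_injective).2 hne
    rw [gaussSum_sq hchi ((quadraticChar_isQuadratic _).comp _) hψ, chi_apply, hm1, ZMod.card]
    push_cast
    ring
  have hsplit : (Finset.univ : Finset (ZMod q)).erase 0 = sqs q ∪ (sqs q).image (fun r => -r) := by
    ext r
    simp only [Finset.mem_erase, Finset.mem_univ, and_true, Finset.mem_union, Finset.mem_image]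
    constructor
    · intro hr
      rcases quadraticChar_dichotomy hr with h | h
      · exact Or.inl (mem_sqs.2 h)
      · refine Or.inr ⟨-r, mem_sqs.2 ?_, neg_neg r⟩
        rw [neg_eq_neg_one_mul, map_mul, hm1, h]
        norm_num
    · rintro (h | ⟨s, h, rfl⟩) h0
      · rw [h0, mem_sqs] at h; simp at h
      · rw [neg_eq_zero] at h0; rw [h0, mem_sqs] at h; simp at h
  have hdisj : Disjoint (sqs q) ((sqs q).image (fun r => -r)) := by
    rw [Finset.disjoint_left]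
    intro r hr hr'
    obtain ⟨s, hs, rfl⟩ := Finset.mem_image.1 hr'
    rw [mem_sqs, neg_eq_neg_one_mul, map_mul, hm1, mem_sqs.1 hs] at hr
    norm_num at hr
  have hall : ∏ r, (1 - ψ r * x) = 1 - x ^ q := by
    have hprim : IsPrimitiveRoot (ψ 1) q := by
      refine ⟨?_, fun l hl => ?_⟩
      · rw [← AddChar.map_nsmul_eq_pow, nsmul_one, ZMod.natCast_self, AddChar.map_zero_eq_one]
      · rw [← AddChar.map_nsmul_eq_pow, nsmul_one] at hl
        rw [← CharP.cast_eq_zero_iff (ZMod q) q l]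
        exact ZMod.injective_stdAddChar (hl.trans (AddChar.map_zero_eq_one _).symm)
    have himg : Finset.univ.image ψ = nthRootsFinset q (1 : ℂ) := by
      refine Finset.eq_of_subset_of_card_le (fun z hz => ?_) ?_
      · obtain ⟨r, _, rfl⟩ := Finset.mem_image.1 hz
        rw [mem_nthRootsFinset (Nat.pos_of_ne_zero (NeZero.ne q))]
        rw [← AddChar.map_nsmul_eq_pow, nsmul_eq_mul, ZMod.natCast_self, zero_mul,
          AddChar.map_zero_eq_one]
      · rw [Finset.card_image_of_injective _ ZMod.injective_stdAddChar, hprim.card_nthRootsFinset,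
          Finset.card_univ, ZMod.card]
    have h := hprim.pow_sub_pow_eq_prod_sub_mul 1 x (Nat.pos_of_ne_zero (NeZero.ne q))
    rw [one_pow, ← himg, Finset.prod_image (fun a _ b _ hab => ZMod.injective_stdAddChar hab)] at h
    exact h.symm
  rw [← hall, ← Finset.mul_prod_erase _ _ (Finset.mem_univ (0 : ZMod q)),
    AddChar.map_zero_eq_one, one_mul, hsplit, Finset.prod_union hdisj,
    Finset.prod_image (fun a _ b _ hab => neg_injective hab), hAB ψ hψ x]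
  have : ∏ r ∈ sqs q, (1 - ψ (-r) * x) = aeval x A + aeval x B * gaussSum (chi q) ψ' := by
    rw [← hAB ψ' hψ' x]
    refine Finset.prod_congr rfl fun r _ => ?_
    simp [ψ', AddChar.mulShift_apply]
  rw [this, hg']
  linear_combination (1 - x) * aeval x B ^ 2 * hgg

end Gauss

/-- `z` is a value of the form `a ^ 2 + q * b ^ 2` with `a`, `b` polynomials in `ζ`. -/
def IsNormVal (ζ : ℂ) (q : ℕ) (z : ℂ) : Prop :=
  ∃ A B : ℚ[X], aeval ζ A ^ 2 + (q : ℂ) * aeval ζ B ^ 2 = z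

theorem IsNormVal.mul {ζ : ℂ} {q : ℕ} {z w : ℂ} (hz : IsNormVal ζ q z) (hw : IsNormVal ζ q w) :
    IsNormVal ζ q (z * w) := by
  obtain ⟨A, B, rfl⟩ := hz
  obtain ⟨A', B', rfl⟩ := hw
  refine ⟨A * A' - C (q : ℚ) * B * B', A * B' + B * A', ?_⟩
  simp only [map_sub, map_add, map_mul, aeval_C, map_natCast]
  ring

theorem isNormVal_sq (ζ : ℂ) (q : ℕ) (A : ℚ[X]) : IsNormVal ζ q (aeval ζ A ^ 2) :=
  ⟨A, 0, by simp⟩

theorem isNormVal_neg_one {ℓ q : ℕ} [Fact ℓ.Prime] [Fact q.Prime] (hℓ : ℓ ≠ 2) (hq : q % 4 = 3)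
    (hns : ¬ IsSquare (q : ZMod ℓ)) {ζ : ℂ} (hζ : IsPrimitiveRoot ζ ℓ) :
    IsNormVal ζ q (-1) := by
  obtain ⟨A, B, hAB⟩ := prod_erase_zero_eq (q := q) hq
  have hℓp : ℓ.Prime := Fact.out
  have hq0 : (q : ZMod ℓ) ≠ 0 := fun h => hns (by rw [h]; exact ⟨0, by simp⟩)
  have hne : ∀ k : ℕ, ζ ^ q ^ k ≠ 1 := by
    intro k h
    have h1 := (hζ.pow_eq_one_iff_dvd _).1 h
    rw [← CharP.cast_eq_zero_iff (ZMod ℓ) ℓ, Nat.cast_pow] at h1
    exact hq0 (eq_zero_of_pow_eq_zero h1)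
  have key : ∀ h : ℕ, ∃ v : ℂ, IsNormVal ζ q v ∧ v * (1 - ζ) = 1 - ζ ^ q ^ h := by
    intro h
    induction h with
    | zero => exact ⟨1, ⟨1, 0, by simp⟩, by simp⟩
    | succ k ih =>
      obtain ⟨v, hv, hv'⟩ := ih
      refine ⟨v * (aeval (ζ ^ q ^ k) A ^ 2 + (q : ℂ) * aeval (ζ ^ q ^ k) B ^ 2),
        hv.mul ⟨A.comp (X ^ q ^ k), B.comp (X ^ q ^ k), by simp [aeval_comp]⟩, ?_⟩
      rw [mul_right_comm, hv', hAB, ← pow_mul, ← pow_succ]
  set h := ℓ / 2 with hh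
  obtain ⟨v, hv, hv'⟩ := key h
  have hpow : ((q ^ h : ℕ) : ZMod ℓ) = -1 := by
    rw [Nat.cast_pow]
    rcases ZMod.pow_div_two_eq_neg_one_or_one ℓ hq0 with h1 | h1
    · exact absurd ((ZMod.euler_criterion ℓ hq0).2 h1) hns
    · exact h1
  have hinv : ζ ^ q ^ h * ζ = 1 := by
    rw [← pow_succ, hζ.pow_eq_one_iff_dvd, ← CharP.cast_eq_zero_iff (ZMod ℓ) ℓ, Nat.cast_add, hpow,
      Nat.cast_one, neg_add_cancel]
  have hne1 : (1 : ℂ) - ζ ≠ 0 := sub_ne_zero.2 (Ne.symm (hζ.ne_one hℓp.one_lt))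
  have hvζ : v * ζ = -1 := by
    apply mul_right_cancel₀ hne1
    linear_combination ζ * hv' - hinv
  have hhalf : ζ = (ζ ^ ((ℓ + 1) / 2)) ^ 2 := by
    have hodd := Nat.Prime.odd_of_ne_two hℓp hℓ
    obtain ⟨m, hm⟩ := hodd
    rw [← pow_mul, show (ℓ + 1) / 2 * 2 = ℓ + 1 by omega, pow_succ, hζ.pow_eq_one, one_mul]
  rw [← hvζ]
  refine hv.mul ?_
  suffices IsNormVal ζ q ((ζ ^ ((ℓ + 1) / 2)) ^ 2) by rwa [← hhalf] at this
  simpa using isNormVal_sq ζ q (X ^ ((ℓ + 1) / 2))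

/-- Thue's lemma for `x ^ 2 + 5 y ^ 2`. -/
theorem exists_five_rep {q : ℕ} [Fact q.Prime] {s : ZMod q} (hs : s * s = -5) :
    ∃ (k : ℕ) (x y : ℤ), 1 ≤ k ∧ k ≤ 5 ∧ x ^ 2 + 5 * y ^ 2 = (k : ℤ) * q := by
  classical
  set m := Nat.sqrt q with hm
  have hcard : q < (Finset.range (m + 1) ×ˢ Finset.range (m + 1)).card := by
    rw [Finset.card_product, Finset.card_range]
    exact Nat.lt_succ_sqrt q
  obtain ⟨u, hu, w, hw, huw, heq⟩ := Finset.exists_ne_map_eq_of_card_lt_of_maps_to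
    (t := (Finset.univ : Finset (ZMod q)))
    (by rwa [Finset.card_univ, ZMod.card])
    (fun (z : ℕ × ℕ) _ => Finset.mem_univ ((z.1 : ZMod q) + s * (z.2 : ZMod q)))
  rw [Finset.mem_product, Finset.mem_range, Finset.mem_range] at hu hw
  set x : ℤ := (u.1 : ℤ) - w.1 with hx
  set y : ℤ := (u.2 : ℤ) - w.2 with hy
  have hxy : (x : ZMod q) = - s * (y : ZMod q) := by
    rw [hx, hy]
    push_cast
    linear_combination heq
  have hdvd : (q : ℤ) ∣ x ^ 2 + 5 * y ^ 2 := by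
    rw [← ZMod.intCast_zmod_eq_zero_iff_dvd]
    push_cast
    rw [hxy]
    linear_combination ((y : ZMod q)) ^ 2 * hs
  have hmq : ((m : ℤ)) ^ 2 < q := by
    have h1 : m * m ≤ q := Nat.sqrt_le q
    have h2 : m * m ≠ q := fun h => (Fact.out : q.Prime).prime.not_isSquare ⟨m, h.symm⟩
    have : m * m < q := lt_of_le_of_ne h1 h2
    rw [sq]
    exact_mod_cast this
  have hx2 : x ^ 2 ≤ (m : ℤ) ^ 2 := sq_le_sq' (by omega) (by omega)
  have hy2 : y ^ 2 ≤ (m : ℤ) ^ 2 := sq_le_sq' (by omega) (by omega)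
  obtain ⟨k, hk⟩ := hdvd
  have hpos : 0 < x ^ 2 + 5 * y ^ 2 := by
    by_contra hcon
    have h0 : x ^ 2 = 0 ∧ y ^ 2 = 0 := ⟨by nlinarith [sq_nonneg x, sq_nonneg y],
      by nlinarith [sq_nonneg x, sq_nonneg y]⟩
    rw [pow_eq_zero_iff two_ne_zero, pow_eq_zero_iff two_ne_zero] at h0
    apply huw
    ext <;> omega
  have hqpos : (0 : ℤ) < q := by exact_mod_cast (Fact.out : q.Prime).pos
  have hk0 : 0 < k := by
    by_contra hcon
    nlinarith
  have hk6 : k < 6 := by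
    by_contra hcon
    nlinarith
  lift k to ℕ using hk0.le
  refine ⟨k, x, y, by omega, by omega, ?_⟩
  rw [hk, mul_comm]

theorem exists_five_two_squares {q : ℕ} [Fact q.Prime] {s : ZMod q} (hs : s * s = -5) :
    ∃ s₀ s₁ t₀ t₁ : ℚ,
      s₀ ^ 2 + 5 * s₁ ^ 2 + t₀ ^ 2 + 5 * t₁ ^ 2 = (q : ℚ) ∧ s₀ * s₁ + t₀ * t₁ = 0 := by
  obtain ⟨k, x, y, hk1, hk5, h⟩ := exists_five_rep hs
  have h' : (x : ℚ) ^ 2 + 5 * (y : ℚ) ^ 2 = (k : ℚ) * q := by exact_mod_cast h
  have main : ∀ u₀ u₁ w₀ w₁ : ℚ, u₀ ^ 2 + 5 * u₁ ^ 2 + w₀ ^ 2 + 5 * w₁ ^ 2 = (k : ℚ) →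
      u₀ * u₁ + w₀ * w₁ = 0 → ∃ s₀ s₁ t₀ t₁ : ℚ,
      s₀ ^ 2 + 5 * s₁ ^ 2 + t₀ ^ 2 + 5 * t₁ ^ 2 = (q : ℚ) ∧ s₀ * s₁ + t₀ * t₁ = 0 := by
    intro u₀ u₁ w₀ w₁ h1 h2
    have hk : (k : ℚ) ≠ 0 := by exact_mod_cast (by omega : k ≠ 0)
    refine ⟨(u₀ * x + 5 * w₁ * y) / k, (u₁ * x + w₀ * y) / k, (w₀ * x - 5 * u₁ * y) / k,
      (w₁ * x - u₀ * y) / k, ?_, ?_⟩
    · field_simp
      linear_combination ((x : ℚ) ^ 2 + 5 * (y : ℚ) ^ 2) * h1 + (k : ℚ) * h'
    · field_simp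
      linear_combination ((x : ℚ) ^ 2 + 5 * (y : ℚ) ^ 2) * h2
  interval_cases k
  · exact main 1 0 0 0 (by norm_num) (by norm_num)
  · exact main 1 0 1 0 (by norm_num) (by norm_num)
  · exact main (1 / 2) (1 / 2) (1 / 2) (-1 / 2) (by norm_num) (by norm_num)
  · exact main 2 0 0 0 (by norm_num) (by norm_num)
  · exact main 2 0 1 0 (by norm_num) (by norm_num)

theorem not_isSquare_three_mod_five : ¬ IsSquare ((3 : ℕ) : ZMod 5) := by decide

theorem exists_aux_prime (ℓ : ℕ) [Fact ℓ.Prime] (hℓ : ℓ ≠ 2) :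
    ∃ q : ℕ, q.Prime ∧ q % 4 = 3 ∧ q % 5 = 3 ∧ ¬ IsSquare (q : ZMod ℓ) := by
  have hℓp : ℓ.Prime := Fact.out
  by_cases h5 : ℓ = 5
  · subst h5
    exact ⟨3, by norm_num, by norm_num, by norm_num, not_isSquare_three_mod_five⟩
  obtain ⟨g, hg⟩ := FiniteField.exists_nonsquare (F := ZMod ℓ)
    (by rwa [ZMod.ringChar_zmod_n])
  have hcop : Nat.Coprime 20 ℓ := by
    rw [Nat.coprime_comm]
    refine hℓp.coprime_iff_not_dvd.2 fun h => ?_
    have : ℓ ∣ 2 * 2 * 5 := by simpa using h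
    rcases (hℓp.dvd_mul).1 this with h2 | h2
    · rcases (hℓp.dvd_mul).1 h2 with h3 | h3 <;>
        exact hℓ ((Nat.prime_dvd_prime_iff_eq hℓp Nat.prime_two).1 h3)
    · exact h5 ((Nat.prime_dvd_prime_iff_eq hℓp Nat.prime_five).1 h2)
  have : NeZero (20 * ℓ) := ⟨Nat.mul_ne_zero (by norm_num) hℓp.ne_zero⟩
  let e := ZMod.chineseRemainder hcop
  have hg0 : g ≠ 0 := fun h => hg (h ▸ ⟨0, by simp⟩)
  have hu : IsUnit (e.symm (3, g)) := by
    refine IsUnit.map e.symm ?_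
    rw [Prod.isUnit_iff]
    exact ⟨⟨⟨3, 7, by decide, by decide⟩, rfl⟩, hg0.isUnit⟩
  obtain ⟨q, -, hq, hqe⟩ := Nat.forall_exists_prime_gt_and_eq_mod hu 0
  have h20 : (q : ZMod 20) = 3 ∧ (q : ZMod ℓ) = g := by
    have := congrArg e hqe
    rw [RingEquiv.apply_symm_apply, map_natCast, Prod.ext_iff] at this
    simpa using this
  have hq20 : q % 20 = 3 := by
    have := congrArg ZMod.val h20.1
    rwa [ZMod.val_natCast] at this
  exact ⟨q, hq, by omega, by omega, h20.2 ▸ hg⟩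

/-- The arithmetic input: `-1` is a value of `a ^ 2 + (s ^ 2 + t ^ 2) * b ^ 2`. -/
theorem exists_arith (ℓ : ℕ) [Fact ℓ.Prime] (hℓ : ℓ ≠ 2) :
    ∃ (A B : ℚ[X]) (n : ℚ) (s₀ s₁ t₀ t₁ : ℚ),
      s₀ ^ 2 + 5 * s₁ ^ 2 + t₀ ^ 2 + 5 * t₁ ^ 2 = n ∧ s₀ * s₁ + t₀ * t₁ = 0 ∧
      cyclotomic ℓ ℚ ∣ A ^ 2 + C n * B ^ 2 + 1 := by
  obtain ⟨q, hq, h4, h5, hns⟩ := exists_aux_prime ℓ hℓ
  have : Fact q.Prime := ⟨hq⟩
  have : Fact (Nat.Prime 5) := ⟨by norm_num⟩
  have hm1 : legendreSym q (-1) = -1 := by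
    rw [legendreSym.at_neg_one (by omega), ZMod.χ₄_nat_three_mod_four h4]
  have h5' : legendreSym q 5 = -1 := by
    rw [legendreSym.eq_neg_one_iff]
    intro h
    have h' : IsSquare (q : ZMod 5) := by
      rw [ZMod.exists_sq_eq_prime_iff_of_mod_four_eq_one (by norm_num) (by omega)]
      simpa using h
    rw [← ZMod.natCast_mod, h5] at h'
    exact absurd h' not_isSquare_three_mod_five
  have hsq : IsSquare ((-5 : ℤ) : ZMod q) := by
    refine (legendreSym.eq_one_iff q ?_).1 ?_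
    · intro h0
      rw [Int.cast_neg, neg_eq_zero, ← legendreSym.eq_zero_iff] at h0
      rw [h0] at h5'
      norm_num at h5'
    · rw [show (-5 : ℤ) = -1 * 5 by norm_num, legendreSym.mul, hm1, h5']
      norm_num
  obtain ⟨s, hs⟩ := hsq
  obtain ⟨s₀, s₁, t₀, t₁, h1, h2⟩ := exists_five_two_squares (q := q) (s := s)
    (by rw [← hs]; push_cast; ring)
  have hℓ0 : ℓ ≠ 0 := (Fact.out : ℓ.Prime).ne_zero
  have hζ := Complex.isPrimitiveRoot_exp ℓ hℓ0
  obtain ⟨A, B, hAB⟩ := isNormVal_neg_one hℓ h4 hns hζ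
  refine ⟨A, B, (q : ℚ), s₀, s₁, t₀, t₁, h1, h2, ?_⟩
  rw [cyclotomic_eq_minpoly_rat hζ (Nat.pos_of_ne_zero hℓ0)]
  apply minpoly.dvd
  simp only [map_add, map_mul, map_pow, aeval_C, map_one, map_natCast]
  linear_combination hAB

end Cfsg.Amitsur
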