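import Mathlib
import Cfsg.Agent.Amitsur.CyclotomicNorm

set_option autoImplicit false

/-!
Identities in a division ring of characteristic zero containing anticommuting square roots
of `-1`, and a square root of `5` commuting with both.
-/

namespace Cfsg.Amitsur

open Polynomial

variable {D : Type*} [DivisionRing D] [CharZero D]

/-- `i` and `j` anticommute and square to `-1`. -/
structure QuatPair (i j : D) : Prop where
  ii : i * i = -1
  jj : j * j = -1
  ji : j * i = -(i * j)

namespace QuatPair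

variable {i j : D}

theorem not_comm (h : QuatPair i j) : ¬ Commute i j := fun hc => by
  have h1 := h.ji
  rw [← hc.eq] at h1
  have h2 : (2 : D) * (i * j) = 0 := by rw [two_mul]; nth_rewrite 2 [h1]; rw [add_neg_cancel]
  have hij : i * j ≠ 0 := mul_ne_zero (fun hi => by simpa [hi] using h.ii)
    (fun hj => by simpa [hj] using h.jj)
  exact hij ((mul_eq_zero.1 h2).resolve_left two_ne_zero)

theorem eq_zero_of_mul_left (h : QuatPair i j) {w : D} (hwj : Commute (w * i) j)
    (hw : Commute w j) : w = 0 := by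
  by_contra hne
  refine h.not_comm ?_
  have h1 : w * (i * j) = w * (j * i) := by
    rw [← mul_assoc, hwj.eq, ← mul_assoc, ← hw.eq, mul_assoc]
  exact mul_left_cancel₀ hne h1

theorem lin_ne (h : QuatPair i j) {u v w e : D} (hui : Commute u i) (huj : Commute u j)
    (hvi : Commute v i) (hvj : Commute v j) (hwi : Commute w i) (hwj : Commute w j)
    (he : e = 1 ∨ e = -1) : u * (i * j) + v * i + w * j ≠ e := by
  intro heq
  have hej : Commute e j := by rcases he with rfl | rfl <;> simp
  have hei : Commute e i := by rcases he with rfl | rfl <;> simp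
  have hcomm : i * (u * (i * j) + v * i + w * j) = (u * (i * j) + v * i + w * j) * i := by
    rw [heq, hei.eq]
  have hj' : j * i = -(i * j) := h.ji
  have h1 : i * (u * (i * j)) = -(u * j) := by
    rw [← mul_assoc i u, ← hui.eq, mul_assoc, ← mul_assoc i i, h.ii, neg_one_mul, mul_neg]
  have h2 : u * (i * j) * i = u * j := by
    rw [mul_assoc, mul_assoc i j, hj', mul_neg, ← mul_assoc i i, h.ii, neg_one_mul, neg_neg]
  have h3 : i * (v * i) = v * i * i := by rw [← mul_assoc, ← hvi.eq]
  have h4 : i * (w * j) = w * (i * j) := by rw [← mul_assoc, ← hwi.eq, mul_assoc]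
  have h5 : w * j * i = -(w * (i * j)) := by rw [mul_assoc, hj', mul_neg]
  rw [mul_add, mul_add, add_mul, add_mul, h1, h2, h3, h4, h5] at hcomm
  have h6 : (2 : D) * ((w * i - u) * j) = 0 := by
    rw [sub_mul, mul_assoc w i j, two_mul]
    have h7 := sub_eq_zero.2 hcomm
    rw [← h7]
    abel
  have hj0 : j ≠ 0 := fun hj => by simpa [hj] using h.jj
  have hwu : w * i = u := sub_eq_zero.1
    ((mul_eq_zero.1 ((mul_eq_zero.1 h6).resolve_left two_ne_zero)).resolve_right hj0)
  have hw0 : w = 0 := h.eq_zero_of_mul_left (hwu ▸ huj) hwj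
  rw [← hwu, hw0] at heq
  simp only [zero_mul, zero_add, add_zero] at heq
  have hv0 : v = 0 := h.eq_zero_of_mul_left (heq ▸ hej) hvj
  rw [hv0, zero_mul] at heq
  rcases he with rfl | rfl <;> simp at heq

theorem sq_eq (h : QuatPair i j) {u v w : D} (hui : Commute u i) (huj : Commute u j)
    (hvi : Commute v i) (hvj : Commute v j) (hwi : Commute w i) (hwj : Commute w j)
    (huv : Commute u v) (huw : Commute u w) (hvw : Commute v w) :
    (u * (i * j) + v * i + w * j) * (u * (i * j) + v * i + w * j)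
      = -(u * u + v * v + w * w) := by
  have hb : ∀ a b p p' : D, Commute b p → a * p * (b * p') = a * b * (p * p') := by
    intro a b p p' hbp
    rw [mul_assoc, ← mul_assoc p b, ← hbp.eq, mul_assoc b p, mul_assoc]
  have huk : Commute u (i * j) := hui.mul_right huj
  have hvk : Commute v (i * j) := hvi.mul_right hvj
  have hwk : Commute w (i * j) := hwi.mul_right hwj
  have hji : j * i = -(i * j) := h.ji
  have hkk : i * j * (i * j) = -1 := by
    rw [mul_assoc, ← mul_assoc j i j, hji, neg_mul, mul_assoc, h.jj, mul_neg_one, neg_neg, h.ii]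
  have hki : i * j * i = j := by
    rw [mul_assoc, hji, mul_neg, ← mul_assoc, h.ii, neg_one_mul, neg_neg]
  have hik : i * (i * j) = -j := by rw [← mul_assoc, h.ii, neg_one_mul]
  have hkj : i * j * j = -i := by rw [mul_assoc, h.jj, mul_neg_one]
  have hjk : j * (i * j) = i := by
    rw [← mul_assoc, hji, neg_mul, mul_assoc, h.jj, mul_neg_one, neg_neg]
  simp only [mul_add, add_mul]
  rw [hb u u _ _ huk, hb v u _ _ hui, hb w u _ _ huj, hb u v _ _ hvk, hb v v _ _ hvi,
    hb w v _ _ hvj, hb u w _ _ hwk, hb v w _ _ hwi, hb w w _ _ hwj]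
  rw [hkk, hki, hik, hkj, hjk, hji, h.ii, h.jj, huv.eq, huw.eq, hvw.eq]
  simp only [mul_neg, mul_one]
  abel

theorem no_sum_three_squares (h : QuatPair i j) {u v w : D} (hui : Commute u i)
    (huj : Commute u j) (hvi : Commute v i) (hvj : Commute v j) (hwi : Commute w i)
    (hwj : Commute w j) (huv : Commute u v) (huw : Commute u w) (hvw : Commute v w) :
    u * u + v * v + w * w ≠ -1 := by
  intro hs
  have hsq := h.sq_eq hui huj hvi hvj hwi hwj huv huw hvw
  rw [hs, neg_neg] at hsq
  exact h.lin_ne hui huj hvi hvj hwi hwj (mul_self_eq_one_iff.1 hsq) rfl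

theorem ne_of_order_four (h : QuatPair i j) {c : D} (hci : Commute c i) (hcj : Commute c j) :
    c * c ≠ -1 := by
  intro hc
  exact h.no_sum_three_squares hci hcj (Commute.zero_left i) (Commute.zero_left j)
    (Commute.zero_left i) (Commute.zero_left j) (Commute.zero_right c) (Commute.zero_right c)
    (Commute.zero_right (0 : D)) (by simp [hc])

theorem ne_of_prime_order (h : QuatPair i j) {r c : D} (hr : r * r = 5) (hri : Commute r i)
    (hrj : Commute r j) (hci : Commute c i) (hcj : Commute c j) (hcr : Commute c r) {ℓ : ℕ}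
    [Fact ℓ.Prime] (hℓ : ℓ ≠ 2) (hc : c ^ ℓ = 1) : c = 1 := by
  by_contra hne
  obtain ⟨A, B, n, s₀, s₁, t₀, t₁, h1, h2, hdvd⟩ := exists_arith ℓ hℓ
  have hcyc : aeval c (cyclotomic ℓ ℚ) = 0 := by
    rw [cyclotomic_prime, map_sum]
    simp only [map_pow, aeval_X]
    have := geom_sum_mul c ℓ
    rw [hc, sub_self, mul_eq_zero] at this
    exact this.resolve_right (sub_ne_zero.2 hne)
  obtain ⟨R, hR⟩ := hdvd
  have h0 : aeval c A ^ 2 + (n : D) * aeval c B ^ 2 + 1 = 0 := by
    have := congrArg (aeval c) hR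
    rw [map_mul, hcyc, zero_mul] at this
    simpa [aeval_C] using this
  set a := aeval c A
  set b := aeval c B
  set S : D := (s₀ : D) + (s₁ : D) * r
  set T : D := (t₀ : D) + (t₁ : D) * r
  have hcp : ∀ P : ℚ[X], ∀ z : D, Commute c z → Commute (aeval c P) z := by
    intro P z hz
    induction P using Polynomial.induction_on' with
    | add p q hp hq => rw [map_add]; exact hp.add_left hq
    | monomial k x =>
      rw [aeval_monomial]
      exact (Algebra.commute_algebraMap_left x z).mul_left (hz.pow_left k)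
  have hlin : ∀ (x y : ℚ) (z : D), Commute r z → Commute ((x : D) + (y : D) * r) z :=
    fun x y z hz => (Rat.cast_commute x z).add_left ((Rat.cast_commute y z).mul_left hz)
  have hab : Commute a b := hcp A _ ((hcp B c (Commute.refl c)).symm)
  have haS : Commute a S := hcp A _ ((hlin s₀ s₁ c hcr.symm).symm)
  have haT : Commute a T := hcp A _ ((hlin t₀ t₁ c hcr.symm).symm)
  have hbS : Commute b S := hcp B _ ((hlin s₀ s₁ c hcr.symm).symm)
  have hbT : Commute b T := hcp B _ ((hlin t₀ t₁ c hcr.symm).symm)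
  have hST : Commute S T := hlin s₀ s₁ _ ((hlin t₀ t₁ r (Commute.refl r)).symm)
  refine h.no_sum_three_squares (u := a) (v := b * S) (w := b * T) (hcp A i hci) (hcp A j hcj)
    ((hcp B i hci).mul_left (hlin _ _ i hri)) ((hcp B j hcj).mul_left (hlin _ _ j hrj))
    ((hcp B i hci).mul_left (hlin _ _ i hri)) ((hcp B j hcj).mul_left (hlin _ _ j hrj))
    (hab.mul_right haS) (hab.mul_right haT)
    (((Commute.refl b).mul_right hbT).mul_left (hbS.symm.mul_right hST)) ?_
  have hsq : ∀ Z : D, Commute b Z → b * Z * (b * Z) = b * b * (Z * Z) := by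
    intro Z hZ
    rw [mul_assoc, ← mul_assoc Z b, ← hZ.eq, mul_assoc b Z, mul_assoc]
  have hexp : ∀ x y : ℚ, ((x : D) + (y : D) * r) * ((x : D) + (y : D) * r)
      = ((x ^ 2 + 5 * y ^ 2 : ℚ) : D) + ((2 * x * y : ℚ) : D) * r := by
    intro x y
    have hrx : r * (x : D) = (x : D) * r := (Rat.cast_commute x r).eq.symm
    have hry : r * (y : D) = (y : D) * r := (Rat.cast_commute y r).eq.symm
    have hyx : (y : D) * (x : D) = (x : D) * y := by rw [← Rat.cast_mul, mul_comm, Rat.cast_mul]
    have e1 : (y : D) * r * ((y : D) * r) = ((5 * y ^ 2 : ℚ) : D) := by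
      rw [mul_assoc, ← mul_assoc r, hry, mul_assoc (y : D) r, hr, ← mul_assoc,
        show (5 : D) = ((5 : ℚ) : D) by norm_num, ← Rat.cast_mul, ← Rat.cast_mul]
      congr 1
      ring
    have e2 : (y : D) * r * (x : D) = (x : D) * y * r := by
      rw [mul_assoc, hrx, ← mul_assoc, hyx]
    simp only [mul_add, add_mul]
    rw [e1, e2, ← mul_assoc (x : D) (y : D) r, ← Rat.cast_mul, ← Rat.cast_mul,
      show (2 * x * y : ℚ) = x * y + x * y by ring, Rat.cast_add (x ^ 2), Rat.cast_add (x * y),
      add_mul, show x * x = x ^ 2 by ring]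
    abel
  have hST2 : S * S + T * T = (n : D) := by
    rw [hexp, hexp, add_add_add_comm, ← Rat.cast_add, ← add_mul, ← Rat.cast_add,
      show 2 * s₀ * s₁ + 2 * t₀ * t₁ = 0 by linear_combination 2 * h2,
      show s₀ ^ 2 + 5 * s₁ ^ 2 + (t₀ ^ 2 + 5 * t₁ ^ 2) = n by linear_combination h1]
    simp
  rw [hsq S hbS, hsq T hbT, add_assoc, ← mul_add, hST2, ← (Rat.cast_commute n (b * b)).eq,
    ← sq, ← sq]
  exact eq_neg_of_add_eq_zero_left h0

/-- An element of finite order commuting with `i`, `j`, `r` is `±1`. -/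
theorem eq_one_or_neg_one (h : QuatPair i j) {r c : D} (hr : r * r = 5) (hri : Commute r i)
    (hrj : Commute r j) (hci : Commute c i) (hcj : Commute c j) (hcr : Commute c r)
    (hfin : IsOfFinOrder c) : c = 1 ∨ c = -1 := by
  set n := orderOf c with hn
  have hn0 : 0 < n := hfin.orderOf_pos
  have hodd : ∀ ℓ : ℕ, ℓ.Prime → ℓ ∣ n → ℓ = 2 := by
    intro ℓ hℓ hdvd
    by_contra hne
    have : Fact ℓ.Prime := ⟨hℓ⟩
    have h1 : (c ^ (n / ℓ)) ^ ℓ = 1 := by
      rw [← pow_mul, Nat.div_mul_cancel hdvd, hn, pow_orderOf_eq_one]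
    have h2 := h.ne_of_prime_order hr hri hrj (hci.pow_left _) (hcj.pow_left _) (hcr.pow_left _)
      hne h1
    rw [← orderOf_dvd_iff_pow_eq_one, ← hn] at h2
    have h3 : n / ℓ = 0 := Nat.eq_zero_of_dvd_of_lt h2 (Nat.div_lt_self hn0 hℓ.one_lt)
    have h4 := Nat.div_mul_cancel hdvd
    rw [h3, zero_mul] at h4
    omega
  obtain ⟨k, hk⟩ : ∃ k, n = 2 ^ k :=
    ⟨_, Nat.eq_prime_pow_of_unique_prime_dvd hn0.ne' (fun {d} hd hdvd => hodd d hd hdvd)⟩
  rcases le_or_gt k 1 with hk1 | hk1
  · apply mul_self_eq_one_iff.1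
    rw [← sq, ← orderOf_dvd_iff_pow_eq_one, ← hn, hk]
    exact pow_dvd_pow 2 hk1 |>.trans (by norm_num)
  · exfalso
    obtain ⟨m, rfl⟩ : ∃ m, k = m + 2 := ⟨k - 2, by omega⟩
    apply h.ne_of_order_four (hci.pow_left (2 ^ m)) (hcj.pow_left (2 ^ m))
    have h1 : (c ^ 2 ^ m * c ^ 2 ^ m) * (c ^ 2 ^ m * c ^ 2 ^ m) = 1 := by
      rw [← pow_add, ← pow_add, show 2 ^ m + 2 ^ m + (2 ^ m + 2 ^ m) = 2 ^ (m + 2) by ring, ← hk,
        hn, pow_orderOf_eq_one]
    refine (mul_self_eq_one_iff.1 h1).resolve_left fun h2 => ?_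
    rw [← pow_add, ← orderOf_dvd_iff_pow_eq_one, ← hn, hk] at h2
    have := Nat.le_of_dvd (by positivity) h2
    have h5 : 2 ^ (m + 2) = 4 * 2 ^ m := by ring
    have h6 : 0 < 2 ^ m := by positivity
    omega

/-- No element commutes with `i`, `j`, negates `r` and squares to `±2`. -/
theorem no_flip (h : QuatPair i j) {r θ : D} (hr : r * r = 5) (hri : Commute r i)
    (hrj : Commute r j) (hθi : Commute θ i) (hθj : Commute θ j) (hθr : θ * r = -(r * θ))
    (hθ : θ * θ = 2 ∨ θ * θ = -2) : False := by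
  have hii := h.ii
  have key : ∀ (T : D) (m : ℕ), Commute T i → Commute T j → T * T = -((m * m + 1 : ℕ) : D) →
      False := by
    intro T m hTi hTj hT
    have hP : ((m : D) * i + j) * ((m : D) * i + j) = -((m * m + 1 : ℕ) : D) := by
      have hmi : Commute (m : D) i := Nat.cast_commute m i
      have hmj : Commute (m : D) j := Nat.cast_commute m j
      simp only [mul_add, add_mul]
      rw [show (m : D) * i * ((m : D) * i) = (m : D) * m * (i * i) by
          rw [mul_assoc, ← mul_assoc i, ← hmi.eq, mul_assoc (m : D) i, mul_assoc],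
        show j * ((m : D) * i) = -((m : D) * i * j) by
          rw [← mul_assoc, ← hmj.eq, mul_assoc, h.ji, mul_neg, mul_assoc], h.ii, h.jj]
      push_cast
      simp only [mul_neg, mul_one]
      abel
    have hTP : Commute T ((m : D) * i + j) :=
      ((Nat.cast_commute m T).symm.mul_right hTi).add_right hTj
    have h0 : (T - ((m : D) * i + j)) * (T + ((m : D) * i + j)) = 0 := by
      revert hTP hP
      generalize (m : D) * i + j = P
      intro hP hTP
      rw [sub_mul, mul_add, mul_add, hTP.eq, hP, hT]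
      abel
    have hPi : Commute ((m : D) * i + j) i := by
      rcases mul_eq_zero.1 h0 with h1 | h1
      · rw [← sub_eq_zero.1 h1]; exact hTi
      · have := hTi.neg_left
        rwa [eq_neg_of_add_eq_zero_left h1, neg_neg] at this
    have hmii : Commute ((m : D) * i) i := (Nat.cast_commute m i).mul_left (Commute.refl i)
    have hji : Commute j i := by
      have := hPi.sub_left hmii
      rwa [add_sub_cancel_left] at this
    exact h.not_comm hji.symm
  rcases hθ with h2 | h2
  · refine key (θ * r) 3 (hθi.mul_left hri) (hθj.mul_left hrj) ?_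
    rw [mul_assoc, ← mul_assoc r θ, show r * θ = -(θ * r) by rw [hθr, neg_neg], neg_mul,
      mul_neg, mul_assoc θ r, hr, ← mul_assoc, h2]
    norm_num
  · exact key θ 1 hθi hθj (by rw [h2]; norm_num)

end QuatPair

end Cfsg.Amitsur
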