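import Mathlib

set_option autoImplicit false
set_option maxRecDepth 10000
set_option synthInstance.maxSize 4000
set_option synthInstance.maxHeartbeats 200000

/-!
Facts about three chosen elements `i`, `j`, `y` of order four in `SL(2, 5)`.
-/

namespace Cfsg.Amitsur

abbrev SL5 := Matrix.SpecialLinearGroup (Fin 2) (ZMod 5)

/-- Quadruples of entries. -/
abbrev Tup := ZMod 5 × ZMod 5 × ZMod 5 × ZMod 5

/-- Entries. -/
def tup (A : SL5) : Tup := (A.1 0 0, A.1 0 1, A.1 1 0, A.1 1 1)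

/-- Product of quadruples. -/
def mu (A B : Tup) : Tup :=
  (A.1 * B.1 + A.2.1 * B.2.2.1, A.1 * B.2.1 + A.2.1 * B.2.2.2,
    A.2.2.1 * B.1 + A.2.2.2 * B.2.2.1, A.2.2.1 * B.2.1 + A.2.2.2 * B.2.2.2)

theorem tup_injective : Function.Injective tup := by
  intro A B h
  simp only [tup, Prod.mk.injEq] at h
  apply Subtype.ext
  ext a b
  fin_cases a <;> fin_cases b
  exacts [h.1, h.2.1, h.2.2.1, h.2.2.2]

theorem tup_mul (A B : SL5) : tup (A * B) = mu (tup A) (tup B) := by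
  simp [tup, mu, Matrix.SpecialLinearGroup.coe_mul, Matrix.mul_apply, Fin.sum_univ_two]

theorem tup_det (A : SL5) : (tup A).1 * (tup A).2.2.2 - (tup A).2.1 * (tup A).2.2.1 = 1 := by
  rw [← A.2, Matrix.det_fin_two]
  rfl

/-- First element of order four. -/
def gi : SL5 := ⟨!![0, 1; 4, 0], by rw [Matrix.det_fin_two_of]; decide⟩
/-- Second element of order four, anticommuting with the first. -/
def gj : SL5 := ⟨!![2, 0; 0, 3], by rw [Matrix.det_fin_two_of]; decide⟩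
/-- Third element of order four. -/
def gy : SL5 := ⟨!![4, 2; 4, 1], by rw [Matrix.det_fin_two_of]; decide⟩
/-- The product of the first two. -/
def gk : SL5 := gi * gj

theorem tup_gi : tup gi = (0, 1, 4, 0) := rfl
theorem tup_gj : tup gj = (2, 0, 0, 3) := rfl
theorem tup_gy : tup gy = (4, 2, 4, 1) := rfl
theorem tup_gk : tup gk = (0, 3, 3, 0) := by rw [gk, tup_mul, tup_gi, tup_gj]; decide
theorem tup_one : tup 1 = (1, 0, 0, 1) := by simp [tup]
theorem tup_neg_one : tup (-1) = (4, 0, 0, 4) := by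
  simp [tup]; decide

theorem sl_mk {P : SL5 → Prop} {Q : Tup → Prop} (h : ∀ a b c d : ZMod 5, a * d - b * c = 1 →
    Q (a, b, c, d)) (hPQ : ∀ A, Q (tup A) → P A) (A : SL5) : P A :=
  hPQ A (h _ _ _ _ (tup_det A))

theorem t_conj_gi : ∀ a b c d : ZMod 5, a * d - b * c = 1 →
    mu (a, b, c, d) (a, b, c, d) = (4, 0, 0, 4) →
    ∃ e f g h : ZMod 5, e * h - f * g = 1 ∧
      mu (e, f, g, h) (a, b, c, d) = mu (0, 1, 4, 0) (e, f, g, h) := by decide

theorem exists_conj_gi (z : SL5) (hz : z * z = -1) : ∃ l : SL5, l * z * l⁻¹ = gi := by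
  have hz' : mu (tup z) (tup z) = (4, 0, 0, 4) := by rw [← tup_mul, hz, tup_neg_one]
  obtain ⟨e, f, g, h, hdet, heq⟩ := t_conj_gi _ _ _ _ (tup_det z) hz'
  let l : SL5 := ⟨!![e, f; g, h], by rw [Matrix.det_fin_two_of]; exact hdet⟩
  refine ⟨l, mul_inv_eq_iff_eq_mul.2 ?_⟩
  apply tup_injective
  rw [tup_mul, tup_mul, tup_gi]
  exact heq

theorem t_anti : ∀ a b c d : ZMod 5, a * d - b * c = 1 →
    mu (a, b, c, d) (a, b, c, d) = (4, 0, 0, 4) →
    mu (a, b, c, d) (0, 1, 4, 0) = mu (4, 0, 0, 4) (mu (0, 1, 4, 0) (a, b, c, d)) →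
    (a, b, c, d) = (2, 0, 0, 3) ∨ (a, b, c, d) = mu (4, 0, 0, 4) (2, 0, 0, 3) ∨
    (a, b, c, d) = (0, 3, 3, 0) ∨ (a, b, c, d) = mu (4, 0, 0, 4) (0, 3, 3, 0) := by decide

theorem anti_gi (z : SL5) (hz : z * z = -1) (h : z * gi = -1 * (gi * z)) :
    z = gj ∨ z = -1 * gj ∨ z = gk ∨ z = -1 * gk := by
  have hz' : mu (tup z) (tup z) = (4, 0, 0, 4) := by rw [← tup_mul, hz, tup_neg_one]
  have h' : mu (tup z) (0, 1, 4, 0) = mu (4, 0, 0, 4) (mu (0, 1, 4, 0) (tup z)) := by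
    rw [← tup_gi, ← tup_neg_one, ← tup_mul, ← tup_mul, ← tup_mul, h]
  simp only [← tup_injective.eq_iff, tup_mul, tup_gj, tup_gk, tup_neg_one]
  exact t_anti _ _ _ _ (tup_det z) hz' h'

/-- Cube of a quadruple. -/
def cube (A : Tup) : Tup := mu (mu A A) A
/-- Fifth power of a quadruple. -/
def fifth (A : Tup) : Tup := mu (mu A A) (cube A)

theorem tup_cube (A : SL5) : tup (A ^ 3) = cube (tup A) := by
  rw [cube, ← tup_mul, ← tup_mul, pow_succ, pow_two]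

theorem tup_fifth (A : SL5) : tup (A ^ 5) = fifth (tup A) := by
  rw [fifth, ← tup_cube, ← tup_mul, ← tup_mul, ← pow_two, ← pow_add]

theorem t_case_j : ∀ a b c d : ZMod 5, a * d - b * c = 1 →
    mu (a, b, c, d) (a, b, c, d) = (4, 0, 0, 4) →
    cube (mu (a, b, c, d) (2, 0, 0, 3)) = (4, 0, 0, 4) →
    fifth (mu (0, 1, 4, 0) (a, b, c, d)) = (1, 0, 0, 1) →
    mu (0, 1, 4, 0) (a, b, c, d) = mu (0, 1, 4, 0) (4, 2, 4, 1) ∨
    mu (mu (0, 1, 4, 0) (a, b, c, d)) (0, 3, 3, 0)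
      = mu (0, 3, 3, 0) (mu (0, 1, 4, 0) (4, 2, 4, 1)) := by decide

theorem case_j (z : SL5) (h1 : z * z = -1) (h2 : (z * gj) ^ 3 = -1) (h3 : (gi * z) ^ 5 = 1) :
    gi * z = gi * gy ∨ gi * z = gk * (gi * gy) * gk⁻¹ := by
  have h1' : mu (tup z) (tup z) = (4, 0, 0, 4) := by rw [← tup_mul, h1, tup_neg_one]
  have h2' : cube (mu (tup z) (2, 0, 0, 3)) = (4, 0, 0, 4) := by
    rw [← tup_gj, ← tup_mul, ← tup_cube, h2, tup_neg_one]
  have h3' : fifth (mu (0, 1, 4, 0) (tup z)) = (1, 0, 0, 1) := by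
    rw [← tup_gi, ← tup_mul, ← tup_fifth, h3, tup_one]
  rw [eq_mul_inv_iff_mul_eq]
  simp only [← tup_injective.eq_iff, tup_mul, tup_gi, tup_gy, tup_gk]
  exact t_case_j _ _ _ _ (tup_det z) h1' h2' h3'

theorem t_case_k : ∀ a b c d : ZMod 5, a * d - b * c = 1 →
    mu (a, b, c, d) (a, b, c, d) = (4, 0, 0, 4) →
    cube (mu (a, b, c, d) (0, 3, 3, 0)) = (4, 0, 0, 4) →
    fifth (mu (0, 1, 4, 0) (a, b, c, d)) = (1, 0, 0, 1) →
    mu (0, 1, 4, 0) (a, b, c, d)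
      = mu (mu (0, 1, 4, 0) (4, 2, 4, 1)) (mu (0, 1, 4, 0) (4, 2, 4, 1)) ∨
    mu (mu (0, 1, 4, 0) (a, b, c, d)) (2, 0, 0, 3)
      = mu (2, 0, 0, 3)
          (mu (mu (0, 1, 4, 0) (4, 2, 4, 1)) (mu (0, 1, 4, 0) (4, 2, 4, 1))) := by decide

theorem case_k (z : SL5) (h1 : z * z = -1) (h2 : (z * gk) ^ 3 = -1) (h3 : (gi * z) ^ 5 = 1) :
    gi * z = (gi * gy) * (gi * gy) ∨ gi * z = gj * ((gi * gy) * (gi * gy)) * gj⁻¹ := by
  have h1' : mu (tup z) (tup z) = (4, 0, 0, 4) := by rw [← tup_mul, h1, tup_neg_one]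
  have h2' : cube (mu (tup z) (0, 3, 3, 0)) = (4, 0, 0, 4) := by
    rw [← tup_gk, ← tup_mul, ← tup_cube, h2, tup_neg_one]
  have h3' : fifth (mu (0, 1, 4, 0) (tup z)) = (1, 0, 0, 1) := by
    rw [← tup_gi, ← tup_mul, ← tup_fifth, h3, tup_one]
  rw [eq_mul_inv_iff_mul_eq]
  simp only [← tup_injective.eq_iff, tup_mul, tup_gi, tup_gy, tup_gj]
  exact t_case_k _ _ _ _ (tup_det z) h1' h2' h3'

theorem gi_mul_gi : gi * gi = -1 := tup_injective (by rw [tup_mul, tup_gi, tup_neg_one]; decide)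
theorem gj_mul_gj : gj * gj = -1 := tup_injective (by rw [tup_mul, tup_gj, tup_neg_one]; decide)
theorem gy_mul_gy : gy * gy = -1 := tup_injective (by rw [tup_mul, tup_gy, tup_neg_one]; decide)
theorem gj_mul_gi : gj * gi = -1 * (gi * gj) := tup_injective (by
  rw [tup_mul, tup_mul, tup_mul, tup_gi, tup_gj, tup_neg_one]; decide)
theorem gy_gj_cube : (gy * gj) ^ 3 = -1 := tup_injective (by
  rw [tup_cube, tup_mul, tup_gy, tup_gj, tup_neg_one]; decide)
theorem gy_gj_ne : gy * gj ≠ -1 := fun h => by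
  have := congrArg tup h
  rw [tup_mul, tup_gy, tup_gj, tup_neg_one] at this
  exact absurd this (by decide)
theorem gi_gy_fifth : (gi * gy) ^ 5 = 1 := tup_injective (by
  rw [tup_fifth, tup_mul, tup_gi, tup_gy, tup_one]; decide)
theorem gi_gy_ne : gi * gy ≠ 1 := fun h => by
  have := congrArg tup h
  rw [tup_mul, tup_gi, tup_gy, tup_one] at this
  exact absurd this (by decide)
theorem neg_one_ne_one : (-1 : SL5) ≠ 1 := fun h => by
  have := congrArg tup h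
  rw [tup_neg_one, tup_one] at this
  exact absurd this (by decide)

end Cfsg.Amitsur
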