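import Mathlib
import Cfsg.Agent.Amitsur.SLFive
import Cfsg.Agent.Amitsur.Quaternion
import Cfsg.Agent.S0690

set_option autoImplicit false

/-!
Finite non-solvable subgroups of division rings.
-/

namespace Cfsg.Amitsur

universe u

variable {D : Type u} [DivisionRing D]

section PrimeChar

theorem isMulCommutative_of_charP (p : ℕ) [Fact p.Prime] [CharP D p] (H : Subgroup Dˣ) [Finite H]
    (a b : H) : a * b = b * a := by
  classical
  let _ : Algebra (ZMod p) D := ZMod.algebra D p
  let M : Submonoid D := H.toSubmonoid.map (Units.coeHom D)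
  have hMfin : (M : Set D).Finite := by
    rw [Submonoid.coe_map]
    exact (Set.toFinite (H : Set Dˣ)).image _
  let A := Algebra.adjoin (ZMod p) (M : Set D)
  have hA : Subalgebra.toSubmodule A = Submodule.span (ZMod p) (M : Set D) := by
    rw [Algebra.adjoin_eq_span, Submonoid.closure_eq]
  have : Module.Finite (ZMod p) (Subalgebra.toSubmodule A) := by
    rw [hA]
    exact Module.Finite.span_of_finite (ZMod p) hMfin
  have : Finite A := Module.finite_of_finite (ZMod p) (M := (Subalgebra.toSubmodule A))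
  have hfield : IsField A := Finite.isDomain_to_isField A
  have hmem : ∀ x : H, (((x : Dˣ)) : D) ∈ A := fun x =>
    Algebra.subset_adjoin ⟨(x : Dˣ), x.2, rfl⟩
  have := congrArg Subtype.val (hfield.mul_comm ⟨_, hmem a⟩ ⟨_, hmem b⟩)
  exact Subtype.ext (Units.ext this)

end PrimeChar

section Embedding

variable [CharZero D]

theorem exists_fpf_action (L : Subgroup Dˣ) [Finite L] :
    ∃ (K : Type u) (_ : Group K) (_ : Finite K) (_ : Nontrivial K) (φ : L →* MulAut K),
      ∀ x : L, x ≠ 1 → ∀ k : K, φ x k = k → k = 1 := by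
  classical
  let S : Set D := Set.range fun x : L => (((x : Dˣ)) : D)
  let Λ : AddSubgroup D := AddSubgroup.closure S
  obtain ⟨p, hpn, hp⟩ := Nat.exists_infinite_primes (Nat.card L + 1)
  have : AddGroup.FG Λ := (AddGroup.fg_iff_addSubgroup_fg _).2
    ⟨(Set.finite_range _).toFinset, by rw [Set.Finite.coe_toFinset]⟩
  let pm : Λ →+ Λ := zsmulAddGroupHom (p : ℤ)
  let P : AddSubgroup Λ := pm.range
  have htors : AddMonoid.IsTorsion (Λ ⧸ P) := by
    intro q
    induction q using QuotientAddGroup.induction_on with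
    | H z =>
      rw [isOfFinAddOrder_iff_nsmul_eq_zero]
      refine ⟨p, hp.pos, ?_⟩
      rw [← QuotientAddGroup.mk_nsmul, QuotientAddGroup.eq_zero_iff]
      exact ⟨z, natCast_zsmul z p⟩
  have : AddGroup.FG (Λ ⧸ P) := QuotientAddGroup.fg P
  have hfinQ : Finite (Λ ⧸ P) := AddCommGroup.finite_of_fg_torsion _ htors
  have hnt : Nontrivial (Λ ⧸ P) := by
    by_contra hcon
    rw [not_nontrivial_iff_subsingleton] at hcon
    have hall : ∀ z : Λ, ∃ w : Λ, (p : ℤ) • w = z := fun z =>
      ((QuotientAddGroup.eq_zero_iff (N := P) z).1 (Subsingleton.elim _ _) : z ∈ P)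
    have : Module.Finite ℤ Λ := Module.Finite.iff_addGroup_fg.2 ‹_›
    have : IsAddTorsionFree Λ := Function.Injective.isAddTorsionFree Λ.subtype
      Subtype.val_injective
    have : Module.IsTorsionFree ℤ Λ := inferInstance
    have : Module.Free ℤ Λ := inferInstance
    let b := Module.Free.chooseBasis ℤ Λ
    have hne : Nontrivial Λ :=
      ⟨⟨⟨1, AddSubgroup.subset_closure ⟨1, by simp⟩⟩, 0, fun h => one_ne_zero (congrArg Subtype.val h)⟩⟩
    obtain ⟨i⟩ := b.index_nonempty
    obtain ⟨w, hw⟩ := hall (b i)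
    have h1 := congrArg (fun z => b.repr z i) hw
    simp only [map_zsmul, Finsupp.smul_apply, Module.Basis.repr_self, Finsupp.single_eq_same,
      smul_eq_mul] at h1
    have h2 : (p : ℤ) ∣ 1 := ⟨_, h1.symm⟩
    exact hp.one_lt.ne' (Nat.dvd_one.1 (by exact_mod_cast h2))
  have hmem : ∀ (x : L) (d : D), d ∈ Λ → ((x : Dˣ) : D) * d ∈ Λ := by
    intro x d hd
    induction hd using AddSubgroup.closure_induction with
    | mem y hy =>
      obtain ⟨z, rfl⟩ := hy
      exact AddSubgroup.subset_closure ⟨x * z, by simp⟩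
    | zero => rw [mul_zero]; exact Λ.zero_mem
    | add y z _ _ hy hz => rw [mul_add]; exact Λ.add_mem hy hz
    | neg y _ hy => rw [mul_neg]; exact Λ.neg_mem hy
  let act : L → (Λ →+ Λ) := fun x =>
    { toFun := fun z => ⟨((x : Dˣ) : D) * z, hmem x z z.2⟩
      map_zero' := Subtype.ext (by simp)
      map_add' := fun a b => Subtype.ext (by simp [mul_add]) }
  have hP : ∀ x : L, P ≤ P.comap (act x) := by
    rintro x _ ⟨w, rfl⟩
    exact ⟨act x w, (map_zsmul (act x) _ _).symm⟩
  let q : L → (Λ ⧸ P →+ Λ ⧸ P) := fun x => QuotientAddGroup.map P P (act x) (hP x)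
  have hq1 : ∀ z, q 1 z = z := fun z => by
    induction z using QuotientAddGroup.induction_on with
    | H z => exact congrArg QuotientAddGroup.mk (Subtype.ext (by simp [act]))
  have hqm : ∀ x y z, q (x * y) z = q x (q y z) := fun x y z => by
    induction z using QuotientAddGroup.induction_on with
    | H z => exact congrArg QuotientAddGroup.mk (Subtype.ext (by simp [act, mul_assoc]))
  let e : L → (Λ ⧸ P ≃+ Λ ⧸ P) := fun x =>
    { toFun := q x
      invFun := q x⁻¹
      left_inv := fun z => by rw [← hqm, inv_mul_cancel, hq1]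
      right_inv := fun z => by rw [← hqm, mul_inv_cancel, hq1]
      map_add' := map_add (q x) }
  refine ⟨Multiplicative (Λ ⧸ P), inferInstance, inferInstance, inferInstance,
    { toFun := fun x => AddEquiv.toMultiplicative (e x)
      map_one' := MulEquiv.ext fun z => congrArg Multiplicative.ofAdd (hq1 z.toAdd)
      map_mul' := fun x y => MulEquiv.ext fun z =>
        congrArg Multiplicative.ofAdd (hqm x y z.toAdd) }, ?_⟩
  intro x hx k hk
  change q x k.toAdd = k.toAdd at hk
  have hxk : ∀ l : ℕ, q (x ^ l) k.toAdd = k.toAdd := by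
    intro l
    induction l with
    | zero => rw [pow_zero, hq1]
    | succ l ih => rw [pow_succ, hqm, hk, ih]
  have hx' : ((x : Dˣ) : D) ≠ 1 := fun h => hx (Subtype.ext (Units.ext h))
  have hsum : ∑ l ∈ Finset.range (orderOf x), (((x ^ l : L) : Dˣ) : D) = 0 := by
    simp only [Subgroup.coe_pow, Units.val_pow_eq_pow_val]
    have := geom_sum_mul ((x : Dˣ) : D) (orderOf x)
    rw [← Units.val_pow_eq_pow_val, ← Subgroup.coe_pow, pow_orderOf_eq_one, OneMemClass.coe_one,
      Units.val_one, sub_self, mul_eq_zero] at this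
    simpa using this.resolve_right (sub_ne_zero.2 hx')
  obtain ⟨z, hz⟩ := QuotientAddGroup.mk_surjective k.toAdd
  have hs0 : ∑ l ∈ Finset.range (orderOf x), act (x ^ l) z = 0 := by
    apply Subtype.ext
    rw [AddSubgroup.val_finsetSum, ZeroMemClass.coe_zero]
    simp only [act, AddMonoidHom.coe_mk, ZeroHom.coe_mk]
    rw [← Finset.sum_mul, hsum, zero_mul]
  have hnk : orderOf x • k.toAdd = 0 := by
    have h1 := congrArg (QuotientAddGroup.mk' P) hs0
    rw [map_sum, map_zero] at h1
    rw [← h1, Finset.sum_congr rfl (g := fun _ => k.toAdd) (fun l _ => ?_), Finset.sum_const,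
      Finset.card_range]
    rw [← hz]
    exact (hz ▸ hxk l :)
  have hpk : p • k.toAdd = 0 := by
    rw [← hz, ← QuotientAddGroup.mk_nsmul, QuotientAddGroup.eq_zero_iff]
    exact ⟨z, natCast_zsmul z p⟩
  have hlt : orderOf x < p := lt_of_le_of_lt (orderOf_le_card) (by omega)
  have h1 : addOrderOf k.toAdd ∣ Nat.gcd (orderOf x) p := Nat.dvd_gcd
    (addOrderOf_dvd_of_nsmul_eq_zero hnk) (addOrderOf_dvd_of_nsmul_eq_zero hpk)
  rw [Nat.gcd_comm, (hp.coprime_iff_not_dvd.2 (Nat.not_dvd_of_pos_of_lt (orderOf_pos x) hlt)).gcd_eq_one,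
    Nat.dvd_one, AddMonoid.addOrderOf_eq_one_iff] at h1
  exact congrArg Multiplicative.ofAdd h1

theorem perfect_iso (L : Subgroup Dˣ) [Finite L] (hperf : commutator L = ⊤) (hne : L ≠ ⊥) :
    Nonempty (L ≃* SL5) := by
  obtain ⟨K, _, _, _, φ, hfpf⟩ := exists_fpf_action L
  have hinj : Function.Injective φ := by
    rw [injective_iff_map_eq_one]
    intro x hx
    by_contra hne1
    obtain ⟨k, hk⟩ := exists_ne (1 : K)
    exact hk (hfpf x hne1 k (by rw [hx]; rfl))
  let e : L ≃* φ.range := MonoidHom.ofInjective hinj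
  have hnt : Nontrivial L := (Subgroup.nontrivial_iff_ne_bot L).2 hne
  obtain ⟨f⟩ := Cfsg.Agent.S0690.result (K := K) φ.range
    (by
      rintro _ ⟨x, rfl⟩ h1 k hk
      exact hfpf x (fun hx => h1 (by rw [hx, map_one])) k hk)
    (by
      rw [commutator_def] at hperf ⊢
      rw [← Subgroup.map_top_of_surjective e.toMonoidHom e.surjective, ← Subgroup.map_commutator,
        hperf])
    (by
      intro hbot
      obtain ⟨x, hx⟩ := exists_ne (1 : L)
      have : φ x ∈ (⊥ : Subgroup (MulAut K)) := hbot ▸ MonoidHom.mem_range.2 ⟨x, rfl⟩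
      exact hx (hinj (by rw [Subgroup.mem_bot.1 this, map_one])))
  exact ⟨e.trans f⟩

end Embedding

section Perfect

variable {G : Type*} [Group G] [Finite G]

theorem exists_normal_perfect (hG : ¬ Group.IsSolvable G) :
    ∃ L : Subgroup G, L.Normal ∧ L ≠ ⊥ ∧ commutator L = ⊤ := by
  classical
  obtain ⟨n, hn⟩ : ∃ n, derivedSeries G (n + 1) = derivedSeries G n := by
    obtain ⟨n, hn⟩ := WellFoundedGT.monotone_chain_condition
      ⟨fun k => OrderDual.toDual (derivedSeries G k), derivedSeries_antitone G⟩
    exact ⟨n, (hn (n + 1) (Nat.le_succ n)).symm⟩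
  refine ⟨derivedSeries G n, derivedSeries_normal G n, fun h => hG ⟨⟨n, h⟩⟩, ?_⟩
  have hmap : (commutator (derivedSeries G n)).map (derivedSeries G n).subtype
      = (⊤ : Subgroup (derivedSeries G n)).map (derivedSeries G n).subtype := by
    rw [commutator_def, Subgroup.map_commutator, ← MonoidHom.range_eq_map, Subgroup.range_subtype,
      ← derivedSeries_succ, hn]
  exact Subgroup.map_injective (Subgroup.subtype_injective _) hmap

end Perfect

section Main

variable [CharZero D]

theorem main (H : Subgroup Dˣ) [Finite H] (hH : ¬ Group.IsSolvable H) :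
    Nonempty (H ≃* SL5) := by
  classical
  obtain ⟨L, hLn, hLne, hLperf⟩ := exists_normal_perfect hH
  let Lu : Subgroup Dˣ := L.map H.subtype
  let eu : L ≃* Lu := L.equivMapOfInjective _ (Subgroup.subtype_injective H)
  have : Finite Lu := Finite.of_equiv L eu.toEquiv
  obtain ⟨e₀⟩ := perfect_iso Lu
    (by
      rw [commutator_def] at hLperf ⊢
      rw [← Subgroup.map_top_of_surjective eu.toMonoidHom eu.surjective, ← Subgroup.map_commutator,
        hLperf])
    (by
      intro hbot
      exact hLne ((Subgroup.map_eq_bot_iff_of_injective _ (Subgroup.subtype_injective H)).1 hbot))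
  let e : L ≃* SL5 := eu.trans e₀
  let v : H → D := fun x => (((x : Dˣ)) : D)
  have hv : Function.Injective v := fun a b h => Subtype.ext (Units.ext h)
  have hvm : ∀ a b, v (a * b) = v a * v b := fun a b => by simp [v]
  have hv1 : v 1 = 1 := by simp [v]
  let F : SL5 → H := fun z => ((e.symm z : L) : H)
  have hFm : ∀ a b, F (a * b) = F a * F b := fun a b => by simp [F]
  have hF1 : F 1 = 1 := by simp [F]
  have hFp : ∀ a (n : ℕ), F (a ^ n) = F a ^ n := fun a n => by simp [F]
  have hFi : Function.Injective F := fun a b h => e.symm.injective (Subtype.ext h)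
  let f : SL5 → D := fun z => v (F z)
  have hfm : ∀ a b, f (a * b) = f a * f b := fun a b => by simp only [f, hFm, hvm]
  have hf1 : f 1 = 1 := by simp only [f, hF1, hv1]
  have hfi : Function.Injective f := hv.comp hFi
  have hfp : ∀ a (n : ℕ), f (a ^ n) = f a ^ n := by
    intro a n
    induction n with
    | zero => rw [pow_zero, pow_zero, hf1]
    | succ n ih => rw [pow_succ, pow_succ, hfm, ih]
  have hfneg : f (-1) = -1 := by
    refine (mul_self_eq_one_iff.1 ?_).resolve_left fun h => neg_one_ne_one (hfi (h.trans hf1.symm))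
    rw [← hfm, neg_one_mul, neg_neg, hf1]
  set i := f gi
  set j := f gj
  set y := f gy
  have hp : QuatPair i j := ⟨by rw [← hfm, gi_mul_gi, hfneg], by rw [← hfm, gj_mul_gj, hfneg],
    by rw [← hfm, gj_mul_gi, hfm, hfm, hfneg, neg_one_mul]⟩
  have hyy : y * y = -1 := by rw [← hfm, gy_mul_gy, hfneg]
  -- the two anticommutators
  set x := i * y with hxdef
  have hx5 : x ^ 5 = 1 := by rw [hxdef, ← hfm, ← hfp, gi_gy_fifth, hf1]
  have hxne : x ≠ 1 := fun h => gi_gy_ne (hfi (by rw [hfm]; exact h.trans hf1.symm))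
  have hx4 : x ^ 4 = y * i := by
    have h1 : (y * i) * x = 1 := by
      rw [hxdef, mul_assoc y i, ← mul_assoc i i, hp.ii, neg_one_mul, mul_neg, hyy, neg_neg]
    calc x ^ 4 = (y * i) * x * x ^ 4 := by rw [h1, one_mul]
      _ = y * i := by rw [mul_assoc, ← pow_succ', hx5, mul_one]
  set s := x + x ^ 4 with hs
  have hxi : x * i = i * x ^ 4 := by rw [hx4, hxdef, mul_assoc]
  have hix : i * x = x ^ 4 * i := by
    rw [hx4, mul_assoc y i i, hp.ii, mul_neg_one, hxdef, ← mul_assoc, hp.ii, neg_one_mul]
  have hsi : Commute s i := by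
    have h4i : x ^ 4 * i = i * x := hix.symm
    show s * i = i * s
    rw [hs, add_mul, mul_add, hxi, h4i, add_comm]
  have hyj : y * j + j * y = 1 := by
    have hw3 : (y * j) ^ 3 = -1 := by rw [← hfm, ← hfp, gy_gj_cube, hfneg]
    have hwne : y * j + 1 ≠ 0 := fun h => gy_gj_ne (hfi (by
      rw [hfm, hfneg]; exact eq_neg_of_add_eq_zero_left h))
    have hw : (y * j) * (y * j) - y * j + 1 = 0 := by
      have h0 : (y * j + 1) * ((y * j) * (y * j) - y * j + 1) = 0 := by
        have h3 : y * j * (y * j * (y * j)) = -1 := by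
          rw [← hw3, pow_succ, pow_two, mul_assoc (y * j)]
        rw [add_mul, one_mul, mul_add, mul_sub, mul_one, h3]
        abel
      exact (mul_eq_zero.1 h0).resolve_left hwne
    have hinv : y * j * (j * y) = 1 := by
      rw [mul_assoc, ← mul_assoc j j, hp.jj, neg_one_mul, mul_neg, hyy, neg_neg]
    have hw0 : y * j ≠ 0 := left_ne_zero_of_mul_eq_one hinv
    apply mul_left_cancel₀ hw0
    rw [mul_add, hinv, mul_one, ← sub_eq_zero, ← hw]
    abel
  have hsj : Commute s j := by
    have h1 : x * j = -(y * i * j) * 0 + (i - i * j * y) := by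
      rw [mul_zero, zero_add, hxdef, mul_assoc, eq_sub_of_add_eq hyj, mul_sub, mul_one, mul_assoc]
    have h2 : x ^ 4 * j = j * y * i - i := by
      rw [hx4, mul_assoc, show i * j = -(j * i) by rw [hp.ji, neg_neg], mul_neg, ← mul_assoc,
        eq_sub_of_add_eq hyj, sub_mul, one_mul, neg_sub]
    show s * j = j * s
    rw [hs, add_mul, mul_add, h1, h2, mul_zero, zero_add, hx4, hxdef,
      show j * (i * y) = -(i * j * y) by rw [← mul_assoc, hp.ji, neg_mul], ← mul_assoc j y i]
    abel
  have hs2 : s * s + s = 1 := by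
    have hg : ∑ l ∈ Finset.range 5, x ^ l = 0 := by
      have := geom_sum_mul x 5
      rw [hx5, sub_self, mul_eq_zero] at this
      exact this.resolve_right (sub_ne_zero.2 hxne)
    simp only [Finset.sum_range_succ, Finset.sum_range_zero, pow_zero, pow_one, zero_add] at hg
    have e1 : x * x ^ 4 = 1 := by rw [← pow_succ', hx5]
    have e2 : x ^ 4 * x = 1 := by rw [← pow_succ, hx5]
    have e3 : x ^ 4 * x ^ 4 = x ^ 3 := by
      rw [← pow_add, show 4 + 4 = 5 + 3 from rfl, pow_add, hx5, one_mul]
    rw [hs, add_mul, mul_add, mul_add, e1, e2, e3, ← pow_two, ← sub_eq_zero, ← hg]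
    abel
  set r := s + s + 1 with hr
  have hr5 : r * r = 5 := by
    have h4 : r * r = (s * s + s) + (s * s + s) + (s * s + s) + (s * s + s) + 1 := by
      simp only [hr, add_mul, mul_add, one_mul, mul_one]
      abel
    rw [h4, hs2]
    norm_num
  have hri : Commute r i := (hsi.add_left hsi).add_left (Commute.one_left i)
  have hrj : Commute r j := (hsj.add_left hsj).add_left (Commute.one_left j)
  -- elements centralizing `i`, `j`, `r`
  have hcent : ∀ c : H, Commute (v c) i → Commute (v c) j → Commute (v c) r → c ∈ L := by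
    intro c hci hcj hcr
    have hfin : IsOfFinOrder (v c) := by
      obtain ⟨n, hn, hn'⟩ := isOfFinOrder_iff_pow_eq_one.1 (isOfFinOrder_of_finite c)
      refine isOfFinOrder_iff_pow_eq_one.2 ⟨n, hn, ?_⟩
      simp only [v]
      rw [← Units.val_pow_eq_pow_val, ← Subgroup.coe_pow, hn', OneMemClass.coe_one, Units.val_one]
    rcases hp.eq_one_or_neg_one hr5 hri hrj hci hcj hcr hfin with h | h
    · rw [hv (h.trans hv1.symm)]
      exact L.one_mem
    · rw [show c = F (-1) from hv (h.trans hfneg.symm)]
      exact (e.symm (-1)).2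
  -- normalization
  have hFL : ∀ z, F z ∈ L := fun z => (e.symm z).2
  have hstep : ∀ g : H, ∀ z, ∃ z', v g * f z = f z' * v g := by
    intro g z
    refine ⟨e ⟨g * F z * g⁻¹, hLn.conj_mem _ (hFL z) g⟩, ?_⟩
    simp only [f, F, MulEquiv.symm_apply_apply, ← hvm, inv_mul_cancel_right]
  have hH : ∀ g : H, g ∈ L := by
    intro g₀
    obtain ⟨zi, hzi⟩ := hstep g₀ gi
    have hg0 : ∀ g : H, v g ≠ 0 := fun g => Units.ne_zero _
    have hsq : ∀ (g : H) (a b : SL5), v g * f a = f b * v g → a * a = -1 → b * b = -1 := by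
      intro g a b hab ha
      apply hfi
      rw [hfneg, hfm]
      apply mul_right_cancel₀ (hg0 g)
      rw [mul_assoc, ← hab, ← mul_assoc, ← hab, mul_assoc, ← hfm, ha, hfneg]
      simp
    obtain ⟨l, hl⟩ := exists_conj_gi zi (hsq g₀ gi zi hzi gi_mul_gi)
    suffices key : ∀ g : H, v g * i = i * v g → (∀ z', v g * j = f z' * v g →
        z' = gj ∨ z' = gk) → g ∈ L by
      -- reduce to this case
      have hlg : v (F l * g₀) * i = i * v (F l * g₀) := by
        rw [hvm, mul_assoc, hzi, ← mul_assoc, ← mul_assoc]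
        congr 1
        rw [← hfm, ← hfm, ← hl, inv_mul_cancel_right]
      obtain ⟨zj, hzj⟩ := hstep (F l * g₀) gj
      have hanti : zj * gi = -1 * (gi * zj) := by
        apply hfi
        apply mul_right_cancel₀ (hg0 (F l * g₀))
        rw [hfm, hfm, hfm, hfneg, mul_assoc, ← hlg, ← mul_assoc, ← hzj, mul_assoc, hp.ji,
          neg_one_mul, mul_neg, neg_mul]
        congr 1
        rw [← mul_assoc, mul_assoc i (f zj), ← hzj, ← mul_assoc, hlg]
      have huniq : ∀ (g : H) (a z z' : SL5), v g * f a = f z * v g → v g * f a = f z' * v g →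
          z' = z := fun g a z z' h h' => hfi (mul_right_cancel₀ (hg0 g) (h'.symm.trans h))
      have hmul : ∀ a : L, (a : H) * g₀ ∈ L → g₀ ∈ L := fun a h => by
        have := L.mul_mem (L.inv_mem a.2) h
        rwa [inv_mul_cancel_left] at this
      rcases anti_gi zj (hsq _ gj zj hzj gj_mul_gj) hanti with h | h | h | h
      · exact hmul (e.symm l) (key _ hlg fun z' hz' => Or.inl (h ▸ huniq _ gj zj z' hzj hz'))
      rotate_left
      · exact hmul (e.symm l) (key _ hlg fun z' hz' => Or.inr (h ▸ huniq _ gj zj z' hzj hz'))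
      all_goals
        apply hmul (e.symm (gi * l))
        have hgl : ((e.symm (gi * l) : L) : H) * g₀ = F gi * (F l * g₀) := by
          rw [show ((e.symm (gi * l) : L) : H) = F (gi * l) from rfl, hFm, mul_assoc]
        rw [hgl]
        have hgi' : v (F gi * (F l * g₀)) * i = i * v (F gi * (F l * g₀)) := by
          rw [hvm, mul_assoc, hlg, ← mul_assoc]
        refine key _ hgi' fun z' hz' => ?_
        have hzj' : v (F gi * (F l * g₀)) * j = f (gi * zj * gi⁻¹) * v (F gi * (F l * g₀)) := by
          rw [hvm, mul_assoc, hzj, ← mul_assoc, ← mul_assoc]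
          congr 1
          show f gi * f zj = f _ * f gi
          rw [← hfm, ← hfm, inv_mul_cancel_right]
        have hz'' := huniq _ gj _ z' hzj' hz'
        rw [hz'', h]
      · refine Or.inr ?_
        rw [mul_inv_eq_iff_eq_mul]
        apply tup_injective
        simp only [tup_mul, tup_gi, tup_gk, tup_neg_one]
        decide
      · refine Or.inl ?_
        rw [mul_inv_eq_iff_eq_mul]
        apply tup_injective
        simp only [tup_mul, tup_gi, tup_gj, tup_neg_one]
        decide
    -- the two cases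
    intro g hgi hgj
    obtain ⟨zj, hzj⟩ := hstep g gj
    obtain ⟨zy, hzy⟩ := hstep g gy
    have hzy2 := hsq g gy zy hzy gy_mul_gy
    have hzyj : v g * f (gy * gj) = f (zy * zj) * v g := by
      rw [hfm, hfm, ← mul_assoc, hzy, mul_assoc, hzj, mul_assoc]
    have hzyi : v g * x = f (gi * zy) * v g := by
      rw [hxdef, hfm, ← mul_assoc, hgi, mul_assoc, hzy, mul_assoc]
    have hpow : ∀ (a b : D) (n : ℕ), v g * a = b * v g → v g * a ^ n = b ^ n * v g :=
      fun a b n hab => (SemiconjBy.pow_right hab n : SemiconjBy (v g) (a ^ n) (b ^ n))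
    have h3 : (zy * zj) ^ 3 = -1 := hfi (mul_right_cancel₀ (hg0 g) (by
      rw [hfp, hfneg, ← hpow _ _ 3 hzyj, ← hfp, gy_gj_cube, hfneg]
      simp))
    have h5 : (gi * zy) ^ 5 = 1 := hfi (mul_right_cancel₀ (hg0 g) (by
      rw [hfp, hf1, ← hpow _ _ 5 hzyi, hx5, mul_one, one_mul]))
    have hgs : v g * s = (f (gi * zy) + f (gi * zy) ^ 4) * v g := by
      rw [hs, mul_add, add_mul, hzyi, hpow _ _ 4 hzyi]
    have hconjs : ∀ a b : SL5, Commute (f a + f a ^ 4) (f b) →
        f (b * a * b⁻¹) + f (b * a * b⁻¹) ^ 4 = f a + f a ^ 4 := by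
      intro a b hab
      rw [← hfp, conj_pow]
      have hb : f b ≠ 0 := Units.ne_zero _
      apply mul_right_cancel₀ hb
      rw [add_mul, ← hfm, ← hfm, inv_mul_cancel_right, inv_mul_cancel_right, hfm, hfm, ← mul_add,
        hfp, hab.eq]
    have hfx : f (gi * gy) + f (gi * gy) ^ 4 = s := by rw [hfm]
    rcases hgj zj hzj with rfl | rfl
    · have hws : f (gi * zy) + f (gi * zy) ^ 4 = s := by
        rcases case_j zy hzy2 h3 h5 with h | h <;> rw [h]
        · exact hfx
        · rw [hconjs _ _ (by rw [hfx, gk, hfm]; exact hsi.mul_right hsj), hfx]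
      rw [hws] at hgs
      exact hcent g hgi hzj ((Commute.add_right (Commute.add_right hgs hgs)
        (Commute.one_right (v g))))
    · exfalso
      have hfx2 : f (gi * gy * (gi * gy)) + f (gi * gy * (gi * gy)) ^ 4 = -1 - s := by
        rw [hfm (gi * gy), show f (gi * gy) = x from hfm _ _, ← pow_two, ← pow_mul,
          show 2 * 4 = 5 + 3 from rfl, pow_add, hx5, one_mul]
        have hg : ∑ l ∈ Finset.range 5, x ^ l = 0 := by
          have := geom_sum_mul x 5
          rw [hx5, sub_self, mul_eq_zero] at this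
          exact this.resolve_right (sub_ne_zero.2 hxne)
        simp only [Finset.sum_range_succ, Finset.sum_range_zero, pow_zero, pow_one, zero_add] at hg
        rw [hs, ← sub_eq_zero, ← hg]
        abel
      have hws : f (gi * zy) + f (gi * zy) ^ 4 = -1 - s := by
        rcases case_k zy hzy2 h3 h5 with h | h <;> rw [h]
        · exact hfx2
        · rw [hconjs _ _ (by
            rw [hfx2]; exact ((Commute.one_left _).neg_left).sub_left hsj), hfx2]
      rw [hws] at hgs
      have hgr : v g * r = -(r * v g) := by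
        rw [hr, mul_add, mul_add, hgs, mul_one]
        simp only [sub_mul, add_mul, one_mul, neg_mul]
        abel
      have hgk : v g * j = i * j * v g := by rw [hzj, gk, hfm]
      have hgij : v g * (i * j) = -(j * v g) := by
        rw [← mul_assoc, hgi, mul_assoc, hgk, ← mul_assoc, ← mul_assoc, hp.ii, neg_one_mul,
          neg_mul]
      set θ := v g * (1 - i) with hθ
      have hθi : Commute θ i := by
        refine Commute.mul_left hgi ((Commute.one_left i).sub_left (Commute.refl i))
      have hθj : Commute θ j := by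
        show θ * j = j * θ
        rw [hθ, mul_assoc, sub_mul, one_mul, mul_sub, hgk, hgij, sub_neg_eq_add, ← mul_assoc,
          mul_sub, mul_one, mul_assoc j (v g), hgi, ← mul_assoc, hp.ji, neg_mul, sub_neg_eq_add,
          add_comm]
      have hθr : θ * r = -(r * θ) := by
        rw [hθ, mul_assoc, show (1 - i) * r = r * (1 - i) by
          rw [sub_mul, mul_sub, one_mul, mul_one, hri.eq], ← mul_assoc, hgr, neg_mul, mul_assoc]
      have hgg : v g * v g * i = 1 ∨ v g * v g * i = -1 := by
        have hw : v (g * g * F gi) = v g * v g * i := by rw [hvm, hvm]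
        have hgi' : Commute (v g) i := hgi
        have hii : Commute (v g * v g * i) i :=
          (hgi'.mul_left hgi').mul_left (Commute.refl i)
        have hjj : Commute (v g * v g * i) j := by
          show v g * v g * i * j = j * (v g * v g * i)
          rw [mul_assoc, mul_assoc (v g), hgij, mul_neg, ← mul_assoc, hgk, mul_assoc (i * j),
            (hgi'.mul_left hgi').eq, ← mul_assoc j i, hp.ji, neg_mul]
        have hrr : Commute (v g * v g * i) r := by
          refine Commute.mul_left ?_ hri.symm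
          show v g * v g * r = r * (v g * v g)
          rw [mul_assoc, hgr, mul_neg, ← mul_assoc, hgr, neg_mul, neg_neg, mul_assoc]
        have hfin : IsOfFinOrder (v g * v g * i) := by
          obtain ⟨n, hn, hn'⟩ := isOfFinOrder_iff_pow_eq_one.1
            (isOfFinOrder_of_finite (g * g * F gi))
          refine isOfFinOrder_iff_pow_eq_one.2 ⟨n, hn, ?_⟩
          rw [← hw]
          simp only [v]
          rw [← Units.val_pow_eq_pow_val, ← Subgroup.coe_pow, hn', OneMemClass.coe_one,
            Units.val_one]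
        exact hp.eq_one_or_neg_one hr5 hri hrj hii hjj hrr hfin
      have hθθ : θ * θ = -2 * (v g * v g * i) := by
        have h1i : (1 - i) * v g = v g * (1 - i) := by rw [sub_mul, mul_sub, one_mul, mul_one, hgi]
        rw [hθ, mul_assoc, ← mul_assoc (1 - i), h1i, mul_assoc (v g) (1 - i), ← mul_assoc (v g) (v g),
          show (1 - i) * (1 - i) = -(i + i) by
            simp only [mul_sub, sub_mul, one_mul, mul_one, hp.ii]; abel,
          mul_neg, mul_add, neg_mul, two_mul]
      refine hp.no_flip hr5 hri hrj hθi hθj hθr ?_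
      rcases hgg with h | h <;> rw [hθθ, h] <;> norm_num
  have htop : L = ⊤ := eq_top_iff.2 fun g _ => hH g
  exact ⟨((MulEquiv.subgroupCongr htop).trans Subgroup.topEquiv).symm.trans e⟩

end Main

end Cfsg.Amitsur
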